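/-
An involution of a simple group whose centraliser is a Sylow subgroup with
Frattini subgroup of order two: the Sylow subgroup is dihedral of order eight.
-/
import Cfsg.Agent.Lib.Elementary
import Cfsg.Agent.S0206
import Cfsg.Agent.Lib.YoshidaTransfer
import Mathlib.GroupTheory.Transfer

set_option autoImplicit false

namespace CfsgSylowCentral

variable {L : Type*} [Group L] [Finite L]

/-- The situation under study. -/
structure Ctx (P : Subgroup L) (z : L) : Prop where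
  mem : ∀ x : L, x ∈ P ↔ x * z = z * x
  z2 : z * z = 1
  z1 : z ≠ 1
  pg : IsPGroup 2 P
  sq : ∀ x ∈ P, x * x = 1 ∨ x * x = z
  ex4 : ∃ a ∈ P, a * a = z
  conjp : ∀ S : Subgroup L, IsPGroup 2 S → ∃ h : L, ∀ x ∈ S, h⁻¹ * x * h ∈ P
  odd : Odd P.index
  simple : IsSimpleGroup L
  nonab : ¬ IsMulCommutative L

variable {P : Subgroup L} {z : L} (hc : Ctx P z)
include hc

theorem z_mem : z ∈ P := (hc.mem z).mpr rfl

theorem z_inv : z⁻¹ = z := inv_eq_of_mul_eq_one_right hc.z2

theorem conj_dich {x w : L} (hx : x ∈ P) (hw : w ∈ P) : x * w * x⁻¹ = w ∨ x * w * x⁻¹ = z * w := by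
  have e : x * w * x⁻¹ * w⁻¹ = (x * x) * ((x⁻¹ * w) * (x⁻¹ * w)) * (w⁻¹ * w⁻¹) := by group
  have h : x * w * x⁻¹ * w⁻¹ = 1 ∨ x * w * x⁻¹ * w⁻¹ = z := by
    rw [e]
    rcases hc.sq x hx with e1 | e1 <;> rcases hc.sq _ (mul_mem (inv_mem hx) hw) with e2 | e2 <;>
      rcases hc.sq _ (inv_mem hw) with e3 | e3 <;> rw [e1, e2, e3] <;> simp [hc.z2]
  rcases h with h | h
  · exact Or.inl (mul_inv_eq_one.mp h)
  · exact Or.inr (mul_inv_eq_iff_eq_mul.mp h)

theorem comm_conj_mem {g x : L} (h : x * (g * z * g⁻¹) = g * z * g⁻¹ * x) : g⁻¹ * x * g ∈ P := by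
  rw [hc.mem]
  calc g⁻¹ * x * g * z = g⁻¹ * (x * (g * z * g⁻¹)) * g := by group
    _ = g⁻¹ * (g * z * g⁻¹ * x) * g := by rw [h]
    _ = z * (g⁻¹ * x * g) := by group

/-- The facts about one conjugate `t` of `z` in `P`. -/
theorem moved {t : L} (ht : t ∈ P) (hconj : ∃ g, g * z * g⁻¹ = t) (htz : t ≠ z) :
    ∃ a ∈ P, a * t * a⁻¹ = z * t := by
  obtain ⟨g, rfl⟩ := hconj
  by_contra hno
  push Not at hno
  have hle : ∀ x ∈ P, g⁻¹ * x * g ∈ P := fun x hx => comm_conj_mem hc
    (mul_inv_eq_iff_eq_mul.mp ((conj_dich hc hx ht).resolve_right (hno x hx)))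
  obtain ⟨a, ha, ha2⟩ := hc.ex4
  haveI : Finite P := inferInstance
  have hinj : Function.Injective (fun x : P => (⟨g⁻¹ * x * g, hle x x.2⟩ : P)) := fun x y e => by
    have e' : g⁻¹ * (x : L) * g = g⁻¹ * y * g := congrArg Subtype.val e
    exact Subtype.ext (mul_left_cancel (mul_right_cancel e'))
  obtain ⟨⟨b, hb⟩, hba⟩ := (Finite.injective_iff_surjective.mp hinj) ⟨a, ha⟩
  have hba' : g⁻¹ * b * g = a := congrArg Subtype.val hba
  have : b * b = g * z * g⁻¹ := by rw [← ha2, ← hba']; group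
  rcases hc.sq b hb with e | e <;> rw [e] at this
  · exact hc.z1 (conj_eq_one_iff.mp this.symm)
  · exact htz this.symm

theorem abelian_cen {t : L} (ht : t ∈ P) (hconj : ∃ g, g * z * g⁻¹ = t) (htz : t ≠ z) {x : L} (hx : x ∈ P)
    (hxt : x * t = t * x) : x * x = 1 := by
  obtain ⟨g, rfl⟩ := hconj
  rcases hc.sq x hx with e | e
  · exact e
  · exfalso
    rcases hc.sq _ (comm_conj_mem hc hxt) with e' | e'
    · have : g⁻¹ * (x * x) * g = 1 := by rw [← e']; group
      rw [e] at this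
      exact hc.z1 (by
        have h2 := congrArg (fun y => g * y * g⁻¹) this
        simpa [mul_assoc] using h2)
    · apply htz
      calc g * z * g⁻¹ = g * (g⁻¹ * x * g * (g⁻¹ * x * g)) * g⁻¹ := by rw [e']
        _ = x * x := by group
        _ = z := e

theorem cen_comm {t : L} (ht : t ∈ P) (hconj : ∃ g, g * z * g⁻¹ = t) (htz : t ≠ z) {x y : L} (hx : x ∈ P) (hy : y ∈ P)
    (hxt : x * t = t * x) (hyt : y * t = t * y) : x * y = y * x := by
  have h1 := abelian_cen hc ht hconj htz hx hxt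
  have h2 := abelian_cen hc ht hconj htz hy hyt
  have h3 := abelian_cen hc ht hconj htz (mul_mem hx hy) (by rw [mul_assoc, hyt, ← mul_assoc, hxt, mul_assoc])
  calc x * y = (x * y)⁻¹ := (inv_eq_of_mul_eq_one_right h3).symm
    _ = y * x := by rw [mul_inv_rev, inv_eq_of_mul_eq_one_right h1, inv_eq_of_mul_eq_one_right h2]

/-- Two commuting conjugates other than `z` differ by `z`. -/
theorem pair {t t' : L} (ht : t ∈ P) (hct : ∃ g, g * z * g⁻¹ = t) (htz : t ≠ z) (ht' : t' ∈ P)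
    (hct' : ∃ g, g * z * g⁻¹ = t') (htz' : t' ≠ z) (hne : t ≠ t') (hcomm : t * t' = t' * t) : t' = z * t := by
  have hprod : ∃ g, g * z * g⁻¹ = t * t' := by
    obtain ⟨g, hg⟩ := hct
    obtain ⟨g', hg'⟩ := hct'
    have hs : g⁻¹ * t' * g ∈ P := comm_conj_mem hc (by rw [hg, hcomm])
    have hsc : ∃ k, k * z * k⁻¹ = g⁻¹ * t' * g := ⟨g⁻¹ * g', by rw [← hg']; group⟩
    have hsz : g⁻¹ * t' * g ≠ z := fun e => hne (by rw [← hg, ← e]; group)
    obtain ⟨a, -, ea⟩ := moved hc hs hsc hsz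
    refine ⟨g * a * g⁻¹ * g', ?_⟩
    calc g * a * g⁻¹ * g' * z * (g * a * g⁻¹ * g')⁻¹ = g * (a * (g⁻¹ * (g' * z * g'⁻¹) * g) * a⁻¹) * g⁻¹ := by group
      _ = g * (z * (g⁻¹ * t' * g)) * g⁻¹ := by rw [hg', ea]
      _ = (g * z * g⁻¹) * t' := by group
      _ = t * t' := by rw [hg]
  have hz : t * t' = z := by
    by_contra h
    obtain ⟨a, ha, ea⟩ := moved hc (mul_mem ht ht') hprod h
    have fix_iff : a * t = t * a ↔ a * t' = t' * a :=
      ⟨fun h => cen_comm hc ht hct htz ha ht' h hcomm.symm, fun h => cen_comm hc ht' hct' htz' ha ht h hcomm⟩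
    have e : a * (t * t') * a⁻¹ = (a * t * a⁻¹) * (a * t' * a⁻¹) := by group
    have hzt : z * t = t * z := ((hc.mem t).mp ht).symm
    rcases conj_dich hc ha ht with e1 | e1 <;> rcases conj_dich hc ha ht' with e2 | e2 <;> rw [e, e1, e2] at ea
    · exact hc.z1 (right_eq_mul.mp (show t * t' = z * (t * t') from ea))
    · have := (fix_iff.mp (mul_inv_eq_iff_eq_mul.mp e1))
      rw [this, mul_inv_cancel_right] at e2
      exact hc.z1 (right_eq_mul.mp e2)
    · have := (fix_iff.mpr (mul_inv_eq_iff_eq_mul.mp e2))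
      rw [this, mul_inv_cancel_right] at e1
      exact hc.z1 (right_eq_mul.mp e1)
    · have e3 : z * t * (z * t') = (z * z) * (t * t') := by
        calc z * t * (z * t') = z * (t * z) * t' := by group
          _ = z * (z * t) * t' := by rw [hzt]
          _ = _ := by group
      rw [e3, hc.z2, one_mul] at ea
      exact hc.z1 (right_eq_mul.mp ea)
  obtain ⟨g, hg⟩ := hct
  have ht2 : t * t = 1 := abelian_cen hc ht ⟨g, hg⟩ htz ht rfl
  calc t' = t * (t * t') := by rw [← mul_assoc, ht2, one_mul]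
    _ = z * t := by rw [hz]; exact (hc.mem t).mp ht

/-- The subgroup generated by the conjugates of `z` lying in `P`. -/
def weak (P : Subgroup L) (z : L) : Subgroup L := Subgroup.closure {x : L | x ∈ P ∧ ∃ g, g * z * g⁻¹ = x}

theorem weak_le : weak P z ≤ P := (Subgroup.closure_le P).mpr fun _ h => h.1

theorem mem_weak {x : L} (h : x ∈ P) (hg : ∃ g, g * z * g⁻¹ = x) : x ∈ weak P z := Subgroup.subset_closure ⟨h, hg⟩

theorem z_weak : z ∈ weak P z := mem_weak hc (z_mem hc) ⟨1, by group⟩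

theorem weak_normal {a x : L} (ha : a ∈ P) (hx : x ∈ weak P z) : a * x * a⁻¹ ∈ weak P z := by
  rcases conj_dich hc ha (weak_le hc hx) with e | e <;> rw [e]
  · exact hx
  · exact mul_mem (z_weak hc) hx

/-- One step of fusion stays in the coset of the weak closure. -/
theorem step {w h : L} (hw : w ∈ P) (hle : ∀ x ∈ P, x * w = w * x → h⁻¹ * x * h ∈ P) :
    h⁻¹ * w * h ∈ P ∧ h⁻¹ * w * h * w⁻¹ ∈ weak P z := by
  refine ⟨hle w hw rfl, ?_⟩
  have hz := hle z (z_mem hc) ((hc.mem w).mp hw).symm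
  set t := h * z * h⁻¹ with ht
  have htP : t ∈ P := by
    rw [hc.mem, ht]
    have := (hc.mem _).mp hz
    calc h * z * h⁻¹ * z = h * (z * (h⁻¹ * z * h)) * h⁻¹ := by group
      _ = h * (h⁻¹ * z * h * z) * h⁻¹ := by rw [this]
      _ = z * (h * z * h⁻¹) := by group
  have hcong : ∀ {p y : L}, p ∈ P → y ∈ P → p⁻¹ * y * p * y⁻¹ ∈ weak P z := by
    intro p y hp hy
    rcases conj_dich hc (inv_mem hp) hy with e | e <;> rw [inv_inv] at e <;> rw [e]
    · rw [mul_inv_cancel]; exact one_mem _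
    · rw [mul_inv_cancel_right]; exact z_weak hc
  by_cases htz : t = z
  · refine hcong ?_ hw
    rw [hc.mem]
    calc h * z = h * z * h⁻¹ * h := by group
      _ = z * h := by rw [← ht, htz]
  have hct : ∃ g, g * z * g⁻¹ = t := ⟨h, ht.symm⟩
  obtain ⟨a, ha, ea⟩ := moved hc htP hct htz
  have hs : h⁻¹ * z * h ≠ z := fun e => htz (by
    rw [ht]
    calc h * z * h⁻¹ = h * (h⁻¹ * z * h) * h⁻¹ := by rw [e]
      _ = z := by group)
  obtain ⟨b₀, hb₀, eb₀⟩ := moved hc hz ⟨h⁻¹, by group⟩ hs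
  set b := h * b₀ * h⁻¹ with hb
  have eb : b * z * b⁻¹ = t * z := by
    calc b * z * b⁻¹ = h * (b₀ * (h⁻¹ * z * h) * b₀⁻¹) * h⁻¹ := by rw [hb]; group
      _ = h * (z * (h⁻¹ * z * h)) * h⁻¹ := by rw [eb₀]
      _ = t * z := by rw [ht]; group
  have htz' : t * z = z * t := (hc.mem t).mp htP
  set k := a⁻¹ * b with hk
  have hkz : k * z * k⁻¹ = t := by
    calc k * z * k⁻¹ = a⁻¹ * (b * z * b⁻¹) * a := by rw [hk]; group
      _ = a⁻¹ * (a * t * a⁻¹) * a := by rw [eb, ea, htz']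
      _ = t := by group
  have hp : k⁻¹ * h ∈ P := by
    rw [hc.mem]
    calc k⁻¹ * h * z = k⁻¹ * (h * z * h⁻¹) * h := by group
      _ = k⁻¹ * (k * z * k⁻¹) * h := by rw [hkz]
      _ = z * (k⁻¹ * h) := by group
  -- conjugation by `a` and then by `b`
  have hwt : w * t = t * w := by
    have := (hc.mem _).mp (hle w hw rfl)
    calc w * t = h * (h⁻¹ * w * h * z) * h⁻¹ := by rw [ht]; group
      _ = h * (z * (h⁻¹ * w * h)) * h⁻¹ := by rw [this]
      _ = t * w := by rw [ht]; group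
  set w₁ := a * w * a⁻¹ with hw₁
  have hw₁P : w₁ ∈ P := mul_mem (mul_mem ha hw) (inv_mem ha)
  have hd₁ : w₁ * w⁻¹ ∈ weak P z := by
    rcases conj_dich hc ha hw with e | e <;> rw [hw₁, e]
    · rw [mul_inv_cancel]; exact one_mem _
    · rw [mul_inv_cancel_right]; exact z_weak hc
  have hw₁t : w₁ * t = t * w₁ := by
    rcases conj_dich hc ha hw with e | e <;> rw [hw₁, e]
    · exact hwt
    · exact (Commute.mul_left (show Commute z t from htz'.symm) hwt)
  have hd₂ : b⁻¹ * w₁ * b ∈ P ∧ b⁻¹ * w₁ * b * w₁⁻¹ ∈ weak P z := by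
    have hq : h⁻¹ * w₁ * h ∈ P := comm_conj_mem hc (by rw [← ht]; exact hw₁t)
    have key : b⁻¹ * w₁ * b = h * (b₀⁻¹ * (h⁻¹ * w₁ * h) * b₀) * h⁻¹ := by rw [hb]; group
    rcases conj_dich hc (inv_mem hb₀) hq with e | e <;> rw [inv_inv] at e <;> rw [key, e]
    · rw [show h * (h⁻¹ * w₁ * h) * h⁻¹ = w₁ by group, mul_inv_cancel]
      exact ⟨hw₁P, one_mem _⟩
    · rw [show h * (z * (h⁻¹ * w₁ * h)) * h⁻¹ = t * w₁ by rw [ht]; group, mul_inv_cancel_right]
      exact ⟨mul_mem htP hw₁P, mem_weak hc htP hct⟩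
  have hfin := hcong hp hd₂.1
  have e : h⁻¹ * w * h * w⁻¹ = ((k⁻¹ * h)⁻¹ * (b⁻¹ * w₁ * b) * (k⁻¹ * h) * (b⁻¹ * w₁ * b)⁻¹) *
      (b⁻¹ * w₁ * b * w₁⁻¹) * (w₁ * w⁻¹) := by rw [hk, hw₁]; group
  rw [e]
  exact mul_mem (mul_mem hfin hd₂.2) hd₁

/-- Fusion in `P` does not move cosets of the weak closure. -/
theorem fusion {u y : L} (hu : u ∈ P) (hv : y * u * y⁻¹ ∈ P) : y * u * y⁻¹ * u⁻¹ ∈ weak P z := by
  set v := y * u * y⁻¹ with hvdef
  set C := Subgroup.centralizer ({v} : Set L) with hC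
  let A : Subgroup C := (P ⊓ C).subgroupOf C
  let B : Subgroup C := ((P ⊓ Subgroup.centralizer ({u} : Set L)).map (MulAut.conj y).toMonoidHom).subgroupOf C
  have hB : ∀ x ∈ P, x * u = u * x → y * x * y⁻¹ ∈ C := by
    intro x hx hxu
    rw [hC, Subgroup.mem_centralizer_singleton_iff, hvdef]
    calc y * x * y⁻¹ * (y * u * y⁻¹) = y * (x * u) * y⁻¹ := by group
      _ = y * (u * x) * y⁻¹ := by rw [hxu]
      _ = y * u * y⁻¹ * (y * x * y⁻¹) := by group
  have hA2 : IsPGroup 2 A := by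
    refine IsPGroup.comap_of_injective (H := P ⊓ C) ?_ C.subtype C.subtype_injective
    exact IsPGroup.to_le hc.pg inf_le_left
  have hB2 : IsPGroup 2 B := by
    refine IsPGroup.comap_of_injective ?_ C.subtype C.subtype_injective
    exact (IsPGroup.to_le hc.pg inf_le_left).map _
  obtain ⟨S₁, hS₁⟩ := hA2.exists_le_sylow
  obtain ⟨S₂, hS₂⟩ := hB2.exists_le_sylow
  haveI : Fact (Nat.Prime 2) := ⟨Nat.prime_two⟩
  obtain ⟨c, hc'⟩ := MulAction.exists_smul_eq C S₂ S₁
  obtain ⟨h, hh⟩ := hc.conjp ((S₁ : Subgroup C).map C.subtype) (S₁.isPGroup'.map _)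
  have h1 : h⁻¹ * v * h ∈ P ∧ h⁻¹ * v * h * v⁻¹ ∈ weak P z := step hc hv fun x hx hxv => by
    have hxC : x ∈ C := Subgroup.mem_centralizer_singleton_iff.mpr hxv
    exact hh x ⟨⟨x, hxC⟩, hS₁ (show (⟨x, hxC⟩ : C) ∈ A from Subgroup.mem_subgroupOf.mpr ⟨hx, hxC⟩), rfl⟩
  have hcv : (c : L) * v = v * c := Subgroup.mem_centralizer_singleton_iff.mp c.2
  have h2 := step hc (h := y⁻¹ * (c : L)⁻¹ * h) hu fun x hx hxu => by
    have hxC := hB x hx hxu
    have hmem : (⟨y * x * y⁻¹, hxC⟩ : C) ∈ B :=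
      Subgroup.mem_subgroupOf.mpr ⟨x, ⟨hx, Subgroup.mem_centralizer_singleton_iff.mpr hxu⟩, rfl⟩
    have h3 : c * ⟨y * x * y⁻¹, hxC⟩ * c⁻¹ ∈ (S₁ : Subgroup C) := by
      rw [← hc', Sylow.coe_subgroup_smul]
      exact Subgroup.smul_mem_pointwise_smul _ (MulAut.conj c) _ (hS₂ hmem)
    have h4 := hh _ ⟨_, h3, rfl⟩
    have e : (y⁻¹ * (c : L)⁻¹ * h)⁻¹ * x * (y⁻¹ * (c : L)⁻¹ * h) = h⁻¹ * ((c : L) * (y * x * y⁻¹) * (c : L)⁻¹) * h := by
      group
    rw [e]
    exact h4
  have e : (y⁻¹ * (c : L)⁻¹ * h)⁻¹ * u * (y⁻¹ * (c : L)⁻¹ * h) = h⁻¹ * v * h := by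
    calc (y⁻¹ * (c : L)⁻¹ * h)⁻¹ * u * (y⁻¹ * (c : L)⁻¹ * h) = h⁻¹ * ((c : L) * v * (c : L)⁻¹) * h := by
          rw [hvdef]; group
      _ = h⁻¹ * v * h := by rw [hcv, mul_inv_cancel_right]
  rw [e] at h2
  have := mul_mem (inv_mem h1.2) h2.2
  rw [show (h⁻¹ * v * h * v⁻¹)⁻¹ * (h⁻¹ * v * h * u⁻¹) = v * u⁻¹ by group] at this
  exact this

/-- By transfer, the weak closure is everything. -/
theorem weak_eq : weak P z = P := by
  classical
  refine le_antisymm (weak_le hc) fun u hu => ?_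
  let W : Subgroup P := (weak P z).subgroupOf P
  haveI : W.Normal := ⟨fun x hx a => Subgroup.mem_subgroupOf.mpr (weak_normal hc a.2 (Subgroup.mem_subgroupOf.mp hx))⟩
  have hcomm : ∀ a b : P ⧸ W, a * b = b * a := by
    intro a b
    induction a using QuotientGroup.induction_on with
    | _ a =>
      induction b using QuotientGroup.induction_on with
      | _ b =>
        rw [← QuotientGroup.mk_mul, ← QuotientGroup.mk_mul, QuotientGroup.eq, Subgroup.mem_subgroupOf]
        push_cast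
        rcases conj_dich hc (inv_mem b.2) (inv_mem a.2) with e | e
        · rw [show ((a : L) * b)⁻¹ * ((b : L) * a) = ((b : L)⁻¹ * (a : L)⁻¹ * ((b : L)⁻¹)⁻¹) * a by group, e,
            inv_mul_cancel]
          exact one_mem _
        · rw [show ((a : L) * b)⁻¹ * ((b : L) * a) = ((b : L)⁻¹ * (a : L)⁻¹ * ((b : L)⁻¹)⁻¹) * a by group, e,
            inv_mul_cancel_right]
          exact z_weak hc
  letI : CommGroup (P ⧸ W) := { (inferInstance : Group (P ⧸ W)) with mul_comm := hcomm }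
  let φ : P →* P ⧸ W := QuotientGroup.mk' W
  haveI : P.FiniteIndex := inferInstance
  haveI := hc.simple
  have htriv : ∀ g : L, MonoidHom.transfer φ g = 1 := by
    intro g
    rcases (MonoidHom.transfer φ).normal_ker.eq_bot_or_eq_top with e | e
    · refine absurd ?_ hc.nonab
      exact ⟨⟨fun a b => (MonoidHom.ker_eq_bot_iff _).mp e (by rw [map_mul, map_mul, mul_comm])⟩⟩
    · exact MonoidHom.mem_ker.mp (e ▸ Subgroup.mem_top g)
  haveI := Fintype.ofFinite (L ⧸ P)
  have := htriv u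
  rw [MonoidHom.transfer_eq_prod_quotient_orbitRel_zpowers_quot] at this
  have hterm : ∀ q : Quotient (MulAction.orbitRel (Subgroup.zpowers u) (L ⧸ P)),
      φ ⟨q.out.out⁻¹ * u ^ Function.minimalPeriod (u • ·) q.out * q.out.out,
        QuotientGroup.out_conj_pow_minimalPeriod_mem P u q.out⟩ =
      φ ⟨u, hu⟩ ^ Function.minimalPeriod (u • ·) q.out := by
    intro q
    rw [← map_pow]
    refine ((QuotientGroup.eq (s := W)).mpr ?_).symm
    rw [Subgroup.mem_subgroupOf]
    push_cast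
    have hm := QuotientGroup.out_conj_pow_minimalPeriod_mem P u q.out
    have hf := fusion hc (u := u ^ Function.minimalPeriod (u • ·) q.out) (y := q.out.out⁻¹)
      (pow_mem hu _) (by rw [inv_inv]; exact hm)
    rw [inv_inv] at hf
    have h2 := weak_normal hc (inv_mem (pow_mem hu (Function.minimalPeriod (u • ·) q.out))) hf
    rw [inv_inv] at h2
    simpa [mul_assoc] using h2
  rw [Finset.prod_congr rfl (fun q _ => hterm q), Finset.prod_pow_eq_pow_sum, ← Subgroup.index_eq_sum_minimalPeriod P u] at this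
  have h2 : φ ⟨u, hu⟩ ^ 2 = 1 := by
    rw [← map_pow, QuotientGroup.mk'_apply, QuotientGroup.eq_one_iff, Subgroup.mem_subgroupOf]
    push_cast
    rw [sq]
    rcases hc.sq u hu with e | e <;> rw [e]
    · exact one_mem _
    · exact z_weak hc
  obtain ⟨j, hj⟩ := hc.odd
  rw [hj, pow_succ, pow_mul, h2, one_pow, one_mul] at this
  exact Subgroup.mem_subgroupOf.mp ((QuotientGroup.eq_one_iff _).mp this)

theorem weak_le_abelian {t : L} (ht : t ∈ P) (hct : ∃ g, g * z * g⁻¹ = t) (htz : t ≠ z)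
    (hall : ∀ x ∈ P, (∃ g, g * z * g⁻¹ = x) → x * t = t * x) {x : L} (hx : x ∈ P) : x * x = 1 := by
  refine abelian_cen hc ht hct htz hx ?_
  have : weak P z ≤ Subgroup.centralizer ({t} : Set L) := (Subgroup.closure_le _).mpr fun y hy =>
    Subgroup.mem_centralizer_singleton_iff.mpr (hall y hy.1 hy.2)
  exact Subgroup.mem_centralizer_singleton_iff.mp (this (by rw [weak_eq hc]; exact hx))

/-- The conclusion. -/
theorem dihedral : Nonempty (P ≃* DihedralGroup 4) := by
  obtain ⟨a, ha, ha2⟩ := hc.ex4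
  have haa : a * a ≠ 1 := by rw [ha2]; exact hc.z1
  obtain ⟨t, ht, hct, htz⟩ : ∃ t ∈ P, (∃ g, g * z * g⁻¹ = t) ∧ t ≠ z := by
    by_contra hno
    push Not at hno
    have : weak P z ≤ Subgroup.zpowers z := (Subgroup.closure_le _).mpr fun x hx => by
      rw [hno x hx.1 hx.2]; exact Subgroup.mem_zpowers z
    have haz := this (by rw [weak_eq hc]; exact ha)
    obtain ⟨k, rfl⟩ := Subgroup.mem_zpowers_iff.mp haz
    apply haa
    rw [← zpow_add, ← two_mul, zpow_mul, zpow_two, hc.z2, one_zpow]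
  obtain ⟨t₁, ht₁, hct₁, hne₁⟩ : ∃ t₁ ∈ P, (∃ g, g * z * g⁻¹ = t₁) ∧ t₁ * t ≠ t * t₁ := by
    by_contra hno
    push Not at hno
    exact haa (weak_le_abelian hc ht hct htz hno ha)
  have ht₁z : t₁ ≠ z := fun e => hne₁ (by rw [e]; exact ((hc.mem t).mp ht).symm)
  have ht2 : t * t = 1 := abelian_cen hc ht hct htz ht rfl
  have ht12 : t₁ * t₁ = 1 := abelian_cen hc ht₁ hct₁ ht₁z ht₁ rfl
  set x := t * t₁ with hx
  have hx2 : x * x = z := by
    rcases hc.sq x (mul_mem ht ht₁) with e | e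
    · refine absurd ?_ hne₁
      calc t₁ * t = (t * t₁)⁻¹ := by rw [mul_inv_rev, inv_eq_of_mul_eq_one_right ht2, inv_eq_of_mul_eq_one_right ht12]
        _ = t * t₁ := inv_eq_of_mul_eq_one_right e
    · exact e
  have hord : orderOf x = 4 := by
    haveI : Fact (Nat.Prime 2) := ⟨Nat.prime_two⟩
    refine orderOf_eq_prime_pow (p := 2) (n := 1) ?_ ?_
    · rw [pow_one, sq, hx2]; exact hc.z1
    · rw [show 2 ^ (1 + 1) = 2 * 2 from rfl, pow_mul, sq, sq, hx2, hc.z2]
  have hgen : Subgroup.closure ({t, t₁} : Set L) = P := by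
    refine le_antisymm ((Subgroup.closure_le _).mpr ?_) ?_
    · intro y hy
      rcases hy with rfl | rfl
      exacts [ht, ht₁]
    rw [← weak_eq hc]
    refine (Subgroup.closure_le _).mpr fun c hc' => ?_
    obtain ⟨hcP, hcc⟩ := hc'
    have mt : t ∈ Subgroup.closure ({t, t₁} : Set L) := Subgroup.subset_closure (by simp)
    have mt₁ : t₁ ∈ Subgroup.closure ({t, t₁} : Set L) := Subgroup.subset_closure (by simp)
    have mz : z ∈ Subgroup.closure ({t, t₁} : Set L) := by
      rw [← hx2, hx]; exact mul_mem (mul_mem mt mt₁) (mul_mem mt mt₁)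
    by_cases hcz : c = z
    · rw [hcz]; exact mz
    by_cases h1 : c * t = t * c
    · by_cases h : t = c
      · rw [← h]; exact mt
      · rw [pair hc ht hct htz hcP hcc hcz h h1.symm]; exact mul_mem mz mt
    by_cases h2 : c * t₁ = t₁ * c
    · by_cases h : t₁ = c
      · rw [← h]; exact mt₁
      · rw [pair hc ht₁ hct₁ ht₁z hcP hcc hcz h h2.symm]; exact mul_mem mz mt₁
    exfalso
    -- the third possibility has no involutions
    have hcm : ∀ {p q : L}, p ∈ P → q ∈ P → p * q ≠ q * p → p * q = z * (q * p) := by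
      intro p q hp hq hne
      rcases conj_dich hc hp hq with e | e
      · exact absurd (mul_inv_eq_iff_eq_mul.mp e) hne
      · rw [← mul_assoc]
        exact mul_inv_eq_iff_eq_mul.mp e
    have zc : ∀ {p : L}, p ∈ P → p * z = z * p := fun hp => (hc.mem _).mp hp
    set y := c * t₁ * t with hy
    have hyP : y ∈ P := mul_mem (mul_mem hcP ht₁) ht
    have hyt : y * t = t * y := by
      calc y * t = c * t₁ := by rw [hy, mul_assoc, ht2, mul_one]
        _ = (z * z) * c * t₁ := by rw [hc.z2, one_mul]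
        _ = t * y := by
          symm
          calc t * y = (t * c) * t₁ * t := by rw [hy]; simp only [mul_assoc]
            _ = z * (c * t) * t₁ * t := by rw [hcm ht hcP (fun e => h1 e.symm)]
            _ = z * c * (t * t₁) * t := by simp only [mul_assoc]
            _ = z * c * (z * (t₁ * t)) * t := by rw [hcm ht ht₁ (fun e => hne₁ e.symm)]
            _ = z * (c * z) * t₁ * (t * t) := by simp only [mul_assoc]
            _ = _ := by rw [zc hcP, ht2, mul_one]; simp only [mul_assoc]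
    have hyt₁ : y * t₁ = t₁ * y := by
      calc y * t₁ = c * (t₁ * t) * t₁ := by rw [hy]; simp only [mul_assoc]
        _ = c * (z * (t * t₁)) * t₁ := by rw [hcm ht₁ ht hne₁]
        _ = c * z * t * (t₁ * t₁) := by simp only [mul_assoc]
        _ = z * c * t := by rw [ht12, mul_one, zc hcP]
        _ = t₁ * y := by
          symm
          calc t₁ * y = (t₁ * c) * t₁ * t := by rw [hy]; simp only [mul_assoc]
            _ = z * (c * t₁) * t₁ * t := by rw [hcm ht₁ hcP (fun e => h2 e.symm)]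
            _ = z * c * (t₁ * t₁) * t := by simp only [mul_assoc]
            _ = _ := by rw [ht12, mul_one]
    have hy2 : y * y = 1 := abelian_cen hc ht hct htz hyP hyt
    have hc2 : c * c = 1 := abelian_cen hc hcP hcc hcz hcP rfl
    have hyx : y * x = x * y := by rw [hx, ← mul_assoc, hyt, mul_assoc, hyt₁, mul_assoc]
    have hcy : c = y * x := by
      rw [hy, hx]
      calc c = c * t₁ * (t * t) * t₁ := by rw [ht2, mul_one, mul_assoc, ht12, mul_one]
        _ = _ := by simp only [mul_assoc]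
    apply hc.z1
    rw [← hc2, hcy]
    calc z = (y * y) * (x * x) := by rw [hy2, hx2, one_mul]
      _ = y * (y * x) * x := by simp only [mul_assoc]
      _ = y * (x * y) * x := by rw [hyx]
      _ = y * x * (y * x) := by simp only [mul_assoc]
  have h2t : orderOf t = 2 := by
    haveI : Fact (Nat.Prime 2) := ⟨Nat.prime_two⟩
    exact orderOf_eq_prime (by rw [sq, ht2]) fun e => hne₁ (by show t₁ * t = t * t₁; rw [e]; simp)
  have h2t₁ : orderOf t₁ = 2 := by
    haveI : Fact (Nat.Prime 2) := ⟨Nat.prime_two⟩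
    exact orderOf_eq_prime (by rw [sq, ht12]) fun e => hne₁ (by show t₁ * t = t * t₁; rw [e]; simp)
  obtain ⟨e⟩ := Cfsg.Agent.S0206.result t t₁ h2t h2t₁ (fun e => hne₁ (by show t₁ * t = t * t₁; rw [e]))
  rw [← hx, hord] at e
  exact ⟨(MulEquiv.subgroupCongr hgen.symm).trans e⟩

omit hc in
theorem sylow_dihedral [IsSimpleGroup L] (hL : ¬ IsMulCommutative L) (z : L) (hz : orderOf z = 2) (R : Sylow 2 L)
    (hR : (R : Subgroup L) = Subgroup.centralizer ({z} : Set L))
    (hΦ : (frattini ↥(R : Subgroup L)).map (R : Subgroup L).subtype = Subgroup.zpowers z) :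
    Nonempty (↥(R : Subgroup L) ≃* DihedralGroup 4) := by
  haveI : Fact (Nat.Prime 2) := ⟨Nat.prime_two⟩
  have hz2 : z * z = 1 := by rw [← sq, ← hz, pow_orderOf_eq_one]
  have hzp : ∀ y ∈ Subgroup.zpowers z, y = 1 ∨ y = z := by
    intro y hy
    obtain ⟨k, rfl⟩ := Subgroup.mem_zpowers_iff.mp hy
    rcases Int.even_or_odd k with ⟨j, rfl⟩ | ⟨j, rfl⟩
    · left; rw [← two_mul, zpow_mul, zpow_two, hz2, one_zpow]
    · right; rw [zpow_add, zpow_mul, zpow_two, hz2, one_zpow, one_mul, zpow_one]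
  have hsq : ∀ x ∈ (R : Subgroup L), x * x = 1 ∨ x * x = z := fun x hx => by
    refine hzp _ ?_
    rw [← hΦ]
    exact ⟨(⟨x, hx⟩ : (R : Subgroup L)) ^ 2, CfsgLib.pow_mem_frattini_pGroup R.isPGroup' _, by rw [sq]; rfl⟩
  refine dihedral
    { mem := fun x => by rw [hR, Subgroup.mem_centralizer_singleton_iff]
      z2 := hz2
      z1 := fun e => by rw [e, orderOf_one] at hz; omega
      pg := R.isPGroup'
      sq := hsq
      ex4 := ?_
      conjp := fun S hS => ?_
      odd := Nat.not_even_iff_odd.mp fun h => R.not_dvd_index (even_iff_two_dvd.mp h)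
      simple := inferInstance
      nonab := hL }
  · by_contra hno
    push Not at hno
    have h1 : ∀ x : (R : Subgroup L), x * x = 1 := fun x => Subtype.ext ((hsq x x.2).resolve_right (hno x x.2))
    have hc' : ∀ p q : (R : Subgroup L), p * q = q * p := fun p q => by
      calc p * q = (p * q)⁻¹ := (inv_eq_of_mul_eq_one_right (h1 _)).symm
        _ = q * p := by rw [mul_inv_rev, inv_eq_of_mul_eq_one_right (h1 p), inv_eq_of_mul_eq_one_right (h1 q)]
    letI : CommGroup (R : Subgroup L) := { (inferInstance : Group (R : Subgroup L)) with mul_comm := hc' }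
    have hb : frattini (R : Subgroup L) = ⊥ := le_bot_iff.mp fun x hx => by
      have := CfsgLib.YoshidaTransfer.frattini_le_ker (p := 2) (fun a => by rw [sq]; exact h1 a) (MonoidHom.id (R : Subgroup L)) hx
      simpa using this
    rw [hb, Subgroup.map_bot] at hΦ
    have := hΦ.symm ▸ Subgroup.mem_zpowers z
    rw [Subgroup.mem_bot] at this
    rw [this, orderOf_one] at hz
    omega
  · obtain ⟨S', hS'⟩ := hS.exists_le_sylow
    obtain ⟨g, hg⟩ := MulAction.exists_smul_eq L S' R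
    refine ⟨g⁻¹, fun x hx => ?_⟩
    rw [inv_inv, ← hg, Sylow.coe_subgroup_smul]
    exact Subgroup.smul_mem_pointwise_smul _ (MulAut.conj g) _ (hS' hx)

end CfsgSylowCentral
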